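import Groth.Agent.S3701
import Groth.Agent.Lib.AVCov25.Connected
import Groth.Agent.Lib.AVCov25.Points
import Groth.Agent.Lib.Stein6.Basic
import Groth.Agent.Lib.Hens.Reduced
import Groth.Prelude.Def_Pi1

/-!
# Exactness of the homotopy sequence in the middle
-/

open CategoryTheory Limits AlgebraicGeometry TopologicalSpace

set_option autoImplicit false
set_option linter.style.haveILetI false
set_option backward.isDefEq.respectTransparency false

namespace Groth.Agent.MidExact25

universe u

/-- A scheme étale over a reduced scheme is reduced. -/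
theorem isReduced_of_etale {X Y : Scheme.{u}} (g : Y ⟶ X) [Etale g] [IsReduced X] : IsReduced Y := by
  haveI : ∀ y : Y, _root_.IsReduced (Y.presheaf.stalk y) := fun y => by
    obtain ⟨U, hU, hyU, -⟩ := exists_isAffineOpen_mem_and_subset (X := X) (x := g y) (U := ⊤) trivial
    obtain ⟨V, hV, hyV, hVU⟩ := exists_isAffineOpen_mem_and_subset (X := Y) (x := y) (U := g ⁻¹ᵁ U) hyU
    have hft := HasRingHomProperty.appLE (P := @Etale) g inferInstance ⟨U, hU⟩ ⟨V, hV⟩ hVU
    algebraize [(g.appLE U V hVU).hom]
    haveI : _root_.IsReduced Γ(Y, V) := Hens.isReduced_of_etale Γ(X, U) Γ(Y, V)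
    letI := Y.presheaf.algebra_section_stalk (⟨y, hyV⟩ : V)
    haveI := hV.isLocalization_stalk ⟨y, hyV⟩
    exact @isReduced_localizationPreserves Γ(Y, V) _ (hV.primeIdealOf ⟨y, hyV⟩).asIdeal.primeCompl
      (Y.presheaf.stalk y) _ _ _ inferInstance
  exact isReduced_of_isReduced_stalk Y

/-- A connected cover with a section over one geometric fibre comes from the base. -/
theorem essImage_of_section {X S : Scheme.{u}} (f : X ⟶ S) [IsProper f] [Flat f] [LocallyOfFinitePresentation f]
    [ConnectedSpace S]
    (hfib : ∀ (Ω : Type u) [Field Ω] [IsAlgClosed Ω] (s : Spec (CommRingCat.of Ω) ⟶ S),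
      ConnectedSpace ↥(pullback f s) ∧ IsReduced (pullback f s))
    (Y : FEt.Cat X) [ConnectedSpace Y.left] (Ω : Type u) [Field Ω] [IsAlgClosed Ω]
    (s : Spec (CommRingCat.of Ω) ⟶ S) (σ : pullback f s ⟶ Y.left)
    (hσ : σ ≫ Y.hom = pullback.fst f s) :
    (FEt.restrict f).essImage Y := by
  let y : Y.left ⟶ X := Y.hom
  haveI : IsFinite y := Y.prop.1
  haveI : Etale y := Y.prop.2
  let h : Y.left ⟶ S := y ≫ f
  obtain ⟨hDf, hDe⟩ := Groth.Agent.S3701.result h fun K _ _ ξ => by
    haveI := (hfib K ξ).2
    haveI : IsReduced (pullback y (pullback.fst f ξ)) :=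
      isReduced_of_etale (pullback.snd y (pullback.fst f ξ))
    exact isReduced_of_isOpenImmersion (pullbackRightPullbackFstIso f ξ y).inv
  let c : Y.left ⟶ h.normalization := h.toNormalization
  let d : h.normalization ⟶ S := h.fromNormalization
  haveI : IsFinite d := hDf
  haveI : Etale d := hDe
  haveI : GeometricallyConnected c := Stein6.geometricallyConnected_toNormalization h
  have hcd : c ≫ d = y ≫ f := h.toNormalization_fromNormalization
  haveI : ConnectedSpace h.normalization := c.surjective.connectedSpace c.continuous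
  haveI : GeometricallyConnected f := ⟨fun K _ ξ P p₁ p₂ hsq => by
    let γ : Spec (CommRingCat.of (AlgebraicClosure K)) ⟶ Spec (CommRingCat.of K) :=
      Spec.map (CommRingCat.ofHom (algebraMap K (AlgebraicClosure K)))
    haveI := (hfib _ (γ ≫ ξ)).1
    let e : pullback f (γ ≫ ξ) ⟶ P := hsq.lift (pullback.fst _ _) (pullback.snd _ _ ≫ γ)
      (pullback.condition.trans (Category.assoc _ _ _).symm)
    have he : IsPullback e (pullback.snd f (γ ≫ ξ)) p₂ γ := by
      refine IsPullback.of_right ?_ (hsq.lift_snd _ _ _) hsq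
      rw [show e ≫ p₁ = pullback.fst f (γ ≫ ξ) from hsq.lift_fst _ _ _]
      exact IsPullback.of_hasPullback f (γ ≫ ξ)
    haveI : Surjective e := MorphismProperty.of_isPullback (P := @Surjective) he.flip inferInstance
    exact e.surjective.connectedSpace e.continuous⟩
  haveI : ConnectedSpace ↥(pullback d f) := GeometricallyConnected.connectedSpace (pullback.fst d f)
    (pullback.fst d f).isOpenMap
  let θ : Y.left ⟶ pullback d f := pullback.lift c y hcd
  haveI : IsFinite (θ ≫ pullback.snd d f) := by rw [pullback.lift_snd]; infer_instance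
  haveI : Etale (θ ≫ pullback.snd d f) := by rw [pullback.lift_snd]; infer_instance
  haveI : IsFinite θ := IsFinite.of_comp θ (pullback.snd d f)
  haveI : Etale θ := Etale.of_comp θ (pullback.snd d f)
  -- the point of the normalisation singled out by the section
  haveI := (hfib Ω s).1
  haveI := (hfib Ω s).2
  haveI : IsFinite (pullback.snd d s) := MorphismProperty.pullback_snd _ _ hDf
  let σD : pullback f s ⟶ pullback d s := pullback.lift (σ ≫ c) (pullback.snd f s) (by
    rw [Category.assoc, hcd, ← Category.assoc, show σ ≫ y = pullback.fst f s from hσ, pullback.condition])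
  obtain ⟨δ', hδ', hσδ⟩ := AVCov25.exists_point_of_connected (pullback.snd d s) σD
  rw [show σD ≫ pullback.snd d s = pullback.snd f s from pullback.lift_snd _ _ _] at hσδ
  let δ : Spec (CommRingCat.of Ω) ⟶ h.normalization := δ' ≫ pullback.fst d s
  have hδ : δ ≫ d = s := by
    show (δ' ≫ pullback.fst d s) ≫ d = s
    rw [Category.assoc, pullback.condition, reassoc_of% hδ']
  have hσc : σ ≫ c = pullback.snd f s ≫ δ := by
    rw [← show σD ≫ pullback.fst d s = σ ≫ c from pullback.lift_fst _ _ _, hσδ, Category.assoc]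
  let i : pullback f s ⟶ pullback d f := pullback.lift (pullback.snd f s ≫ δ) (pullback.fst f s)
    (by rw [Category.assoc, hδ, pullback.condition])
  have hi : IsPullback i (pullback.snd f s) (pullback.fst d f) δ := by
    refine IsPullback.of_right ?_ (pullback.lift_fst _ _ _) (IsPullback.of_hasPullback d f).flip
    rw [show i ≫ pullback.snd d f = pullback.fst f s from pullback.lift_snd _ _ _, hδ]
    exact IsPullback.of_hasPullback f s
  have hG : IsPullback (pullback.fst θ i) (pullback.snd θ i ≫ pullback.snd f s) (θ ≫ pullback.fst d f) δ :=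
    (IsPullback.of_hasPullback θ i).paste_vert hi
  rw [show θ ≫ pullback.fst d f = c from pullback.lift_fst _ _ _] at hG
  haveI : ConnectedSpace ↥(pullback θ i) :=
    GeometricallyConnected.geometrically_connectedSpace (f := c) δ _ _ hG
  let j : pullback θ i ⟶ pullback f s := pullback.snd θ i
  haveI : IsFinite j := MorphismProperty.pullback_snd _ _ ‹IsFinite θ›
  haveI : Etale j := MorphismProperty.pullback_snd _ _ ‹Etale θ›
  have hσθ : σ ≫ θ = i := by
    apply pullback.hom_ext
    · simp [θ, i, hσc]
    · simpa [θ, i] using hσ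
  let σG : pullback f s ⟶ pullback θ i := pullback.lift σ (𝟙 _) (by rw [hσθ, Category.id_comp])
  have hσG : σG ≫ j = 𝟙 _ := pullback.lift_snd _ _ _
  obtain ⟨K, _, _, x₀, -⟩ := FEtEq25.exists_geomPoint (W := pullback f s) (Classical.arbitrary _)
  have hjeq : j ≫ σG = 𝟙 _ := by
    refine AVCov25.eq_of_agree j _ _ (by rw [Category.assoc, hσG, Category.comp_id, Category.id_comp])
      (x₀ ≫ σG) ?_
    rw [← Category.assoc, Category.assoc x₀ σG j, hσG, Category.comp_id, Category.comp_id]
  haveI : IsIso θ := by
    refine AVCov25.isIso_of_unique θ (x₀ ≫ i) ⟨x₀ ≫ σ, by rw [Category.assoc, hσθ]⟩ fun a b ha hb => ?_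
    have key : ∀ a, a ≫ θ = x₀ ≫ i → a = x₀ ≫ σ := fun a ha => by
      let a' : Spec (CommRingCat.of K) ⟶ pullback θ i := pullback.lift a x₀ ha
      have := congrArg (a' ≫ ·) hjeq
      simp only [Category.comp_id, ← Category.assoc, show a' ≫ j = x₀ from pullback.lift_snd _ _ _] at this
      have h2 := congrArg (· ≫ pullback.fst θ i) this
      simp only [Category.assoc, σG, a', pullback.lift_fst] at h2
      exact h2.symm
    exact (key a ha).trans (key b hb).symm
  let D : FEt.Cat S := MorphismProperty.Over.mk ⊤ d ⟨hDf, hDe⟩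
  exact ⟨D, ⟨MorphismProperty.Over.isoMk (asIso θ).symm (by
    show inv θ ≫ y = pullback.snd d f
    rw [IsIso.inv_comp_eq]
    exact (pullback.lift_snd _ _ _).symm)⟩⟩

end Groth.Agent.MidExact25
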